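import Cfsg.Agent.Lib.ShapeThree.Model

/-!
# Coordinates on an extraspecial group of order 27 and exponent 3
-/

set_option autoImplicit false

namespace CfsgLib.ShapeThree

variable {X : Type*} [Group X]

/-- A power with exponent in `ZMod 3`. -/
def pw (x : X) (i : ZMod 3) : X := x ^ i.val

theorem pow_mod_three {x : X} (h : x ^ 3 = 1) {k : ℕ} : x ^ k = x ^ (k % 3) := by
  conv_lhs => rw [← Nat.div_add_mod k 3, pow_add, pow_mul, h, one_pow, one_mul]

theorem pw_add {x : X} (h : x ^ 3 = 1) (i j : ZMod 3) : pw x (i + j) = pw x i * pw x j := by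
  rw [pw, pw, pw, ← pow_add, ZMod.val_add, ← pow_mod_three h]

@[simp] theorem pw_zero (x : X) : pw x 0 = 1 := by simp [pw]

theorem pw_one (x : X) : pw x 1 = x := by simp [pw, show (1 : ZMod 3).val = 1 from rfl]

theorem pw_mem {R : Subgroup X} {x : X} (h : x ∈ R) (i : ZMod 3) : pw x i ∈ R := pow_mem h _

theorem pw_eq_one {x : X} (h : x ^ 3 = 1) (h1 : x ≠ 1) {i : ZMod 3} (hi : pw x i = 1) : i = 0 := by
  by_contra hne
  have hord : orderOf x = 3 := haveI : Fact (Nat.Prime 3) := ⟨Nat.prime_three⟩; orderOf_eq_prime h h1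
  exact pow_ne_one_of_lt_orderOf (x := x) (n := i.val) (fun h0 => hne ((ZMod.val_eq_zero i).1 h0))
    (by rw [hord]; exact ZMod.val_lt i) hi

theorem pw_inj {x : X} (h : x ^ 3 = 1) (h1 : x ≠ 1) {i j : ZMod 3} (hij : pw x i = pw x j) : i = j := by
  refine sub_eq_zero.1 (pw_eq_one h h1 ?_)
  rw [sub_eq_add_neg, pw_add h, hij, ← pw_add h, add_neg_cancel, pw_zero]

theorem shuffle {A B Z1 A' B' Z2 Z3 : X} (hBA : B * A' = Z3 * (A' * B)) (h1a : Commute Z1 A')
    (h1b : Commute Z1 B') (h3a : Commute Z3 A') (h3b : Commute Z3 B) (h3b' : Commute Z3 B') :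
    (A * B * Z1) * (A' * B' * Z2) = (A * A') * (B * B') * (Z3 * Z1 * Z2) := by
  calc (A * B * Z1) * (A' * B' * Z2) = A * B * (Z1 * (A' * B')) * Z2 := by simp only [mul_assoc]
    _ = A * B * (A' * B' * Z1) * Z2 := by rw [(h1a.mul_right h1b).eq]
    _ = A * (B * A') * B' * Z1 * Z2 := by simp only [mul_assoc]
    _ = A * (Z3 * (A' * (B * B'))) * Z1 * Z2 := by rw [hBA]; simp only [mul_assoc]
    _ = A * (A' * (B * B') * Z3) * Z1 * Z2 := by rw [(h3a.mul_right (h3b.mul_right h3b')).eq]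
    _ = (A * A') * (B * B') * (Z3 * Z1 * Z2) := by simp only [mul_assoc]

/-- A generating pair with its commutator. -/
structure Pair (R : Subgroup X) where
  a : X
  b : X
  z : X
  ha : a ∈ R
  hb : b ∈ R
  hz : z ∈ R
  exp : ∀ r ∈ R, r ^ 3 = 1
  hzc : ∀ r ∈ R, Commute z r
  hba : b * a = z * (a * b)
  hz1 : z ≠ 1
  hcard : Nat.card R = 27

namespace Pair

variable {R : Subgroup X} (P : Pair R)

/-- The element with given coordinates. -/
def phi (v : Fin 2 → ZMod 3) (c : ZMod 3) : X := pw P.a (v 0) * pw P.b (v 1) * pw P.z (c - v 0 * v 1)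

theorem phi_mem (v : Fin 2 → ZMod 3) (c : ZMod 3) : P.phi v c ∈ R :=
  mul_mem (mul_mem (pw_mem P.ha _) (pw_mem P.hb _)) (pw_mem P.hz _)

theorem pow_comm (j k : ℕ) : P.b ^ j * P.a ^ k = P.z ^ (j * k) * (P.a ^ k * P.b ^ j) := by
  have hza : Commute P.z P.a := P.hzc _ P.ha
  have hzb : Commute P.z P.b := P.hzc _ P.hb
  have h1 : ∀ k : ℕ, P.b * P.a ^ k = P.z ^ k * (P.a ^ k * P.b) := by
    intro k
    induction k with
    | zero => simp
    | succ k ih =>
      calc P.b * P.a ^ (k + 1) = (P.b * P.a ^ k) * P.a := by rw [pow_succ, mul_assoc]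
        _ = P.z ^ k * (P.a ^ k * (P.b * P.a)) := by rw [ih]; simp only [mul_assoc]
        _ = P.z ^ k * ((P.a ^ k * P.z) * (P.a * P.b)) := by rw [P.hba]; simp only [mul_assoc]
        _ = P.z ^ (k + 1) * (P.a ^ (k + 1) * P.b) := by
          rw [(hza.pow_right k).symm.eq, pow_succ P.z, pow_succ P.a]; simp only [mul_assoc]
  induction j with
  | zero => simp
  | succ j ih =>
    calc P.b ^ (j + 1) * P.a ^ k = P.b * (P.b ^ j * P.a ^ k) := by rw [pow_succ', mul_assoc]
      _ = (P.b * P.z ^ (j * k)) * (P.a ^ k * P.b ^ j) := by rw [ih, mul_assoc]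
      _ = P.z ^ (j * k) * ((P.b * P.a ^ k) * P.b ^ j) := by
        rw [← (hzb.pow_left (j * k)).eq]; simp only [mul_assoc]
      _ = P.z ^ ((j + 1) * k) * (P.a ^ k * P.b ^ (j + 1)) := by
        rw [h1, pow_succ' P.b, add_mul, one_mul, pow_add]; simp only [mul_assoc]

theorem phi_mul (v w : Fin 2 → ZMod 3) (c d : ZMod 3) :
    P.phi v c * P.phi w d = P.phi (v + w) (c + d + om v w) := by
  have hza : ∀ i j, Commute (pw P.z i) (pw P.a j) := fun i j => ((P.hzc _ P.ha).pow_pow _ _)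
  have hzb : ∀ i j, Commute (pw P.z i) (pw P.b j) := fun i j => ((P.hzc _ P.hb).pow_pow _ _)
  have hzz := pw_add (P.exp _ P.hz)
  rw [phi, phi, phi, shuffle (Z3 := pw P.z (v 1 * w 0)) ?_ (hza _ _) (hzb _ _) (hza _ _) (hzb _ _) (hzb _ _),
    ← pw_add (P.exp _ P.ha), ← pw_add (P.exp _ P.hb), ← hzz, ← hzz]
  · simp only [Pi.add_apply, om]
    congr 2
    have h3 : (3 : ZMod 3) = 0 := rfl
    linear_combination (v 1 * w 0) * h3
  · rw [pw, pw, pw, P.pow_comm, ZMod.val_mul,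
      pow_mod_three (P.exp _ P.hz) (k := (v 1).val * (w 0).val)]

theorem phi_zero : P.phi 0 0 = 1 := by simp [phi]

theorem phi_mul_neg (v : Fin 2 → ZMod 3) (c : ZMod 3) : P.phi v c * P.phi (-v) (-c) = 1 := by
  rw [P.phi_mul, add_neg_cancel, add_neg_cancel, zero_add,
    show om v (-v) = 0 by simp [om]; ring, P.phi_zero]

theorem phi_inv (v : Fin 2 → ZMod 3) (c : ZMod 3) : (P.phi v c)⁻¹ = P.phi (-v) (-c) :=
  inv_eq_of_mul_eq_one_right (P.phi_mul_neg v c)

theorem phi_eq_pw (c : ZMod 3) : P.phi 0 c = pw P.z c := by simp [phi]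

theorem eq_zero_of_phi_eq_one {v : Fin 2 → ZMod 3} {c : ZMod 3} (h : P.phi v c = 1) : v = 0 ∧ c = 0 := by
  have hom : ∀ e, om v e = om e v := by
    intro e
    have h' : P.phi v c * P.phi e 0 = P.phi e 0 * P.phi v c := by rw [h, one_mul, mul_one]
    rw [P.phi_mul, P.phi_mul, add_comm e v, phi, phi] at h'
    have h2 := pw_inj (P.exp _ P.hz) P.hz1 (mul_left_cancel h')
    linear_combination h2
  have hv : v = 0 := by
    have key : ∀ v : Fin 2 → ZMod 3, om v ![1, 0] = om ![1, 0] v → om v ![0, 1] = om ![0, 1] v → v = 0 := by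
      decide +kernel
    exact key v (hom _) (hom _)
  subst hv
  exact ⟨rfl, pw_eq_one (P.exp _ P.hz) P.hz1 (by rw [← P.phi_eq_pw]; exact h)⟩

theorem phi_inj {v w : Fin 2 → ZMod 3} {c d : ZMod 3} (h : P.phi v c = P.phi w d) : v = w ∧ c = d := by
  have h1 : P.phi v c * P.phi (-w) (-d) = 1 := by rw [h, P.phi_mul_neg]
  rw [P.phi_mul] at h1
  obtain ⟨e1, e2⟩ := P.eq_zero_of_phi_eq_one h1
  have e : v = w := add_neg_eq_zero.1 e1
  subst e
  exact ⟨rfl, by simp [om] at e2; linear_combination e2⟩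

theorem exists_phi {r : X} (hr : r ∈ R) : ∃ v c, P.phi v c = r := by
  have : Finite R := Nat.finite_of_card_ne_zero (by rw [P.hcard]; norm_num)
  let f : (Fin 2 → ZMod 3) × ZMod 3 → R := fun t => ⟨P.phi t.1 t.2, P.phi_mem _ _⟩
  have hf : Function.Injective f := fun s t h =>
    Prod.ext (P.phi_inj (congrArg Subtype.val h)).1 (P.phi_inj (congrArg Subtype.val h)).2
  have hb := hf.bijective_of_nat_card_le (by simp [P.hcard])
  obtain ⟨⟨v, c⟩, hvc⟩ := hb.2 ⟨r, hr⟩
  exact ⟨v, c, congrArg Subtype.val hvc⟩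

open Classical in
/-- The image modulo the centre. -/
noncomputable def pi (r : X) : Fin 2 → ZMod 3 :=
  if h : r ∈ R then (P.exists_phi h).choose else 0

open Classical in
/-- The central coordinate. -/
noncomputable def cc (r : X) : ZMod 3 :=
  if h : r ∈ R then (P.exists_phi h).choose_spec.choose else 0

theorem phi_pi {r : X} (hr : r ∈ R) : P.phi (P.pi r) (P.cc r) = r := by
  rw [pi, cc, dif_pos hr, dif_pos hr]; exact (P.exists_phi hr).choose_spec.choose_spec

theorem pi_phi (v : Fin 2 → ZMod 3) (c : ZMod 3) : P.pi (P.phi v c) = v :=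
  (P.phi_inj (P.phi_pi (P.phi_mem v c))).1

theorem cc_phi (v : Fin 2 → ZMod 3) (c : ZMod 3) : P.cc (P.phi v c) = c :=
  (P.phi_inj (P.phi_pi (P.phi_mem v c))).2

theorem pi_mul {r s : X} (hr : r ∈ R) (hs : s ∈ R) : P.pi (r * s) = P.pi r + P.pi s := by
  conv_lhs => rw [← P.phi_pi hr, ← P.phi_pi hs, P.phi_mul, P.pi_phi]

theorem pi_eq_zero_of_comm {r : X} (hr : r ∈ R) (h : ∀ s ∈ R, r * s = s * r) : P.pi r = 0 := by
  obtain ⟨v, c, rfl⟩ := P.exists_phi hr
  rw [P.pi_phi]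
  have hom : ∀ e, om v e = om e v := by
    intro e
    have h' := h _ (P.phi_mem e 0)
    rw [P.phi_mul, P.phi_mul, add_comm e v] at h'
    linear_combination (P.phi_inj h').2
  have key : ∀ v : Fin 2 → ZMod 3, om v ![1, 0] = om ![1, 0] v → om v ![0, 1] = om ![0, 1] v → v = 0 := by
    decide +kernel
  exact key v (hom _) (hom _)

theorem comm_of_pi_eq_zero {r : X} (hr : r ∈ R) (h : P.pi r = 0) {s : X} (hs : s ∈ R) : r * s = s * r := by
  rw [← P.phi_pi hr, h, P.phi_eq_pw]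
  exact ((P.hzc s hs).pow_left _).eq

end Pair

end CfsgLib.ShapeThree
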