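import Cfsg.Agent.Lib.ShapeThree.Coords
import Cfsg.Agent.Lib.CharP.PCore
import Cfsg.Agent.Lib.Solvable.Gaschutz

/-!
# Groups of shape `3^{1+2}:SL₂(3)`
-/

set_option autoImplicit false
set_option linter.style.haveILetI false
set_option linter.unusedSectionVars false

namespace CfsgLib.ShapeThree

open Matrix
open scoped commutatorElement

local notation "V" => Fin 2 → ZMod 3

theorem s2_coe_mul (A B : S2) : ((A * B : S2) : Matrix (Fin 2) (Fin 2) (ZMod 3)) = (A : Matrix (Fin 2) (Fin 2) (ZMod 3)) * B :=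
  rfl

variable {X : Type*} [Group X] [Finite X] {R : Subgroup X} [hn : R.Normal] (P : Pair R)
  (e : X ⧸ R ≃* S2)

/-- Conjugation seen modulo the centre. -/
noncomputable def conjHom (x : X) : V →+ V where
  toFun v := P.pi (x * P.phi v 0 * x⁻¹)
  map_zero' := by rw [P.phi_zero, mul_one, mul_inv_cancel, ← P.phi_zero, P.pi_phi]
  map_add' v w := by
    have hm : ∀ u c, x * P.phi u c * x⁻¹ ∈ R := fun u c => hn.conj_mem _ (P.phi_mem u c) x
    have h1 : x * P.phi (v + w) 0 * x⁻¹ =
        (x * P.phi v 0 * x⁻¹) * (x * P.phi w 0 * x⁻¹) * (x * P.phi 0 (-om v w) * x⁻¹) := by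
      calc x * P.phi (v + w) 0 * x⁻¹ = x * (P.phi v 0 * P.phi w 0 * P.phi 0 (-om v w)) * x⁻¹ := by
            rw [P.phi_mul, P.phi_mul]
            simp [om]
        _ = _ := by group
    have h2 : P.pi (x * P.phi 0 (-om v w) * x⁻¹) = 0 := by
      refine P.pi_eq_zero_of_comm (hm _ _) fun s hs => ?_
      have h3 := P.comm_of_pi_eq_zero (P.phi_mem 0 (-om v w)) (P.pi_phi _ _)
        (hn.conj_mem s hs x⁻¹)
      rw [inv_inv] at h3
      calc x * P.phi 0 (-om v w) * x⁻¹ * s
          = x * (P.phi 0 (-om v w) * (x⁻¹ * s * x)) * x⁻¹ := by group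
        _ = x * ((x⁻¹ * s * x) * P.phi 0 (-om v w)) * x⁻¹ := by rw [h3]
        _ = s * (x * P.phi 0 (-om v w) * x⁻¹) := by group
    rw [h1, P.pi_mul (mul_mem (hm _ _) (hm _ _)) (hm _ _), P.pi_mul (hm _ _) (hm _ _), h2, add_zero]

/-- The matrix of conjugation modulo the centre. -/
noncomputable def theta (x : X) : Matrix (Fin 2) (Fin 2) (ZMod 3) :=
  LinearMap.toMatrix' ((conjHom P x).toZModLinearMap 3)

theorem theta_mulVec (x : X) (v : V) : theta P x *ᵥ v = P.pi (x * P.phi v 0 * x⁻¹) := by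
  rw [theta, LinearMap.toMatrix'_mulVec]; rfl

theorem pi_conj (x : X) (v : V) (c : ZMod 3) : P.pi (x * P.phi v c * x⁻¹) = theta P x *ᵥ v := by
  have h0 : ∀ c, P.pi (x * P.phi 0 c * x⁻¹) = 0 := fun c => by
    refine P.pi_eq_zero_of_comm (hn.conj_mem _ (P.phi_mem _ _) x) fun s hs => ?_
    have h3 := P.comm_of_pi_eq_zero (P.phi_mem 0 c) (P.pi_phi _ _) (hn.conj_mem s hs x⁻¹)
    rw [inv_inv] at h3
    calc x * P.phi 0 c * x⁻¹ * s = x * (P.phi 0 c * (x⁻¹ * s * x)) * x⁻¹ := by group
      _ = x * ((x⁻¹ * s * x) * P.phi 0 c) * x⁻¹ := by rw [h3]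
      _ = s * (x * P.phi 0 c * x⁻¹) := by group
  have h1 : x * P.phi v c * x⁻¹ = (x * P.phi v 0 * x⁻¹) * (x * P.phi 0 c * x⁻¹) := by
    calc x * P.phi v c * x⁻¹ = x * (P.phi v 0 * P.phi 0 c) * x⁻¹ := by
          rw [P.phi_mul, add_zero, zero_add, show om v 0 = 0 by simp [om], add_zero]
      _ = _ := by group
  rw [h1, P.pi_mul (hn.conj_mem _ (P.phi_mem _ _) x) (hn.conj_mem _ (P.phi_mem _ _) x), h0, add_zero,
    theta_mulVec]

/-- The action as a homomorphism. -/
noncomputable def thetaHom : X →* Matrix (Fin 2) (Fin 2) (ZMod 3) where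
  toFun := theta P
  map_one' := Matrix.ext_iff_mulVec.2 fun v => by
    rw [theta_mulVec, one_mul, inv_one, mul_one, P.pi_phi, one_mulVec]
  map_mul' x y := Matrix.ext_iff_mulVec.2 fun v => by
    have hm : y * P.phi v 0 * y⁻¹ ∈ R := hn.conj_mem _ (P.phi_mem v 0) y
    rw [← mulVec_mulVec, theta_mulVec P y, ← pi_conj P x _ (P.cc (y * P.phi v 0 * y⁻¹)), P.phi_pi hm,
      theta_mulVec]
    congr 1
    group

theorem theta_of_mem {r : X} (hr : r ∈ R) : theta P r = 1 := Matrix.ext_iff_mulVec.2 fun v => by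
  rw [theta_mulVec, P.pi_mul (mul_mem hr (P.phi_mem _ _)) (inv_mem hr), P.pi_mul hr (P.phi_mem _ _),
    one_mulVec, P.pi_phi, add_right_comm, ← P.pi_mul hr (inv_mem hr), mul_inv_cancel, ← P.phi_zero,
    P.pi_phi, zero_add]

/-- The induced homomorphism on `SL₂(3)`. -/
noncomputable def phiS : S2 →* (Matrix (Fin 2) (Fin 2) (ZMod 3))ˣ :=
  (QuotientGroup.lift R (thetaHom P).toHomUnits (fun r hr => Units.ext (theta_of_mem P hr))).comp
    e.symm.toMonoidHom

theorem phiS_mk (x : X) : (phiS P e (e (QuotientGroup.mk x)) : Matrix (Fin 2) (Fin 2) (ZMod 3)) = theta P x := by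
  simp [phiS, thetaHom]

variable (hO2 : Cfsg.pCore 2 X = ⊥)
include P e hO2

theorem exists_j : ∃ j : X, j * j = 1 ∧ e (QuotientGroup.mk j) = -1 := by
  obtain ⟨u', hu'⟩ := e.surjective (-1)
  obtain ⟨u, rfl⟩ := QuotientGroup.mk_surjective u'
  have h2 : u ^ 2 ∈ R := by
    rw [← QuotientGroup.eq_one_iff, ← e.injective.eq_iff, QuotientGroup.mk_pow, map_pow, hu', map_one]
    exact neg_one_sq
  refine ⟨u ^ 3, ?_, ?_⟩
  · rw [← pow_add, show 3 + 3 = 2 * 3 by norm_num, pow_mul]; exact P.exp _ h2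
  · rw [QuotientGroup.mk_pow, map_pow, hu']
    exact Odd.neg_one_pow ⟨1, rfl⟩

theorem theta_j_ne_one {j : X} (hj : j * j = 1) (hje : e (QuotientGroup.mk j) = -1) : theta P j ≠ 1 := by
  intro h1
  have hjinv : j⁻¹ = j := inv_eq_of_mul_eq_one_right hj
  have hshift : ∀ v, ∀ c, ∃ k, j * P.phi v c * j⁻¹ = P.phi v k := by
    intro v c
    have hm := hn.conj_mem _ (P.phi_mem v c) j
    refine ⟨P.cc (j * P.phi v c * j⁻¹), ?_⟩
    conv_lhs => rw [← P.phi_pi hm]
    rw [pi_conj, h1, one_mulVec]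
  -- `j` fixes the centre
  have hzfix : ∀ c, j * P.phi 0 c * j⁻¹ = P.phi 0 c := by
    obtain ⟨ka, hka⟩ := hshift ![1, 0] 0
    obtain ⟨kb, hkb⟩ := hshift ![0, 1] 0
    obtain ⟨kc, hkc⟩ := hshift 0 1
    have h : P.phi ![0, 1] 0 * P.phi ![1, 0] 0 * P.phi 0 (-(om ![0, 1] ![1, 0] : ZMod 3) + om ![1, 0] ![0, 1]) =
        P.phi ![1, 0] 0 * P.phi ![0, 1] 0 := by
      rw [P.phi_mul, P.phi_mul, P.phi_mul, add_comm (![0, 1] : V), add_zero,
        show ∀ u : V, om u 0 = 0 from fun u => by simp [om]]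
      congr 1
    rw [show -(om ![0, 1] ![1, 0] : ZMod 3) + om ![1, 0] ![0, 1] = 2 by simp [om]; ring] at h
    have h' := congrArg (fun r => j * r * j⁻¹) h
    rw [show ∀ r s t : X, j * (r * s * t) * j⁻¹ = (j * r * j⁻¹) * (j * s * j⁻¹) * (j * t * j⁻¹) from
        fun r s t => by group,
      show ∀ r s : X, j * (r * s) * j⁻¹ = (j * r * j⁻¹) * (j * s * j⁻¹) from fun r s => by group,
      hka, hkb] at h'
    obtain ⟨k2, hk2⟩ := hshift 0 2
    rw [hk2, P.phi_mul, P.phi_mul, P.phi_mul] at h'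
    have e2 := (P.phi_inj h').2
    simp [om] at e2
    have hk22 : k2 = 2 := by linear_combination e2
    rw [hk22] at hk2
    intro c
    have : ∀ c : ZMod 3, c = 0 ∨ c = 2 ∨ c = 2 + 2 := by decide
    rcases this c with rfl | rfl | rfl
    · rw [P.phi_zero, mul_one, mul_inv_cancel]
    · exact hk2
    · rw [show P.phi 0 (2 + 2) = P.phi 0 2 * P.phi 0 2 by rw [P.phi_mul, add_zero, show om 0 0 = 0 by simp [om], add_zero],
        show j * (P.phi 0 2 * P.phi 0 2) * j⁻¹ = (j * P.phi 0 2 * j⁻¹) * (j * P.phi 0 2 * j⁻¹) by group, hk2]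
  have hcent : ∀ r ∈ R, j * r = r * j := by
    intro r hr
    obtain ⟨v, c, rfl⟩ := P.exists_phi hr
    obtain ⟨k, hk⟩ := hshift v c
    have h2 : j * P.phi v k * j⁻¹ = P.phi v c := by
      rw [← hk, hjinv, ← mul_assoc, ← mul_assoc, hj, one_mul, mul_assoc, hj, mul_one]
    rw [show P.phi v k = P.phi v c * P.phi 0 (k - c) by
        rw [P.phi_mul, add_zero, show om v 0 = 0 by simp [om], add_zero, add_sub_cancel],
      show j * (P.phi v c * P.phi 0 (k - c)) * j⁻¹ = (j * P.phi v c * j⁻¹) * (j * P.phi 0 (k - c) * j⁻¹) by group,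
      hk, hzfix, P.phi_mul, show om v 0 = 0 by simp [om], add_zero, add_zero] at h2
    have hkc : k = c := by
      have key : ∀ a b : ZMod 3, a + (a - b) = b → a = b := by decide
      exact key _ _ (P.phi_inj h2).2
    rw [hkc] at hk
    exact mul_inv_eq_iff_eq_mul.1 hk
  -- so `j` is central
  have hjc : ∀ g : X, g * j * g⁻¹ = j := by
    intro g
    have hρ : j⁻¹ * (g * j * g⁻¹) ∈ R := by
      rw [← QuotientGroup.eq_one_iff, ← e.injective.eq_iff]
      simp only [QuotientGroup.mk_mul, QuotientGroup.mk_inv, map_mul, map_inv, map_one, hje]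
      rw [show e (QuotientGroup.mk g) * (-1 : S2) = (-1 : S2) * e (QuotientGroup.mk g) from
        ((Commute.neg_one_left _).symm).eq]
      group
    set ρ := j⁻¹ * (g * j * g⁻¹) with hρdef
    have hρ2 : ρ * ρ = 1 := by
      have h' : (j * ρ) * (j * ρ) = 1 := by
        rw [hρdef, mul_inv_cancel_left]
        calc g * j * g⁻¹ * (g * j * g⁻¹) = g * (j * j) * g⁻¹ := by group
          _ = 1 := by rw [hj, mul_one, mul_inv_cancel]
      rw [mul_assoc, ← mul_assoc ρ, ← hcent ρ hρ, mul_assoc j ρ, ← mul_assoc j, hj, one_mul] at h'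
      exact h'
    have hρ1 : ρ = 1 := by
      have := P.exp ρ hρ
      rwa [pow_succ, sq, hρ2, one_mul] at this
    exact (inv_mul_eq_one.1 hρ1).symm
  haveI : (Subgroup.zpowers j).Normal := ⟨fun x hx g => by
    obtain ⟨k, rfl⟩ := Subgroup.mem_zpowers_iff.1 hx
    rw [← conj_zpow, hjc]
    exact Subgroup.zpow_mem_zpowers j k⟩
  have hj1 : j ≠ 1 := fun h => neg_one_ne_one (by rw [← hje, h, QuotientGroup.mk_one, map_one])
  have hp : IsPGroup 2 (Subgroup.zpowers j) := IsPGroup.of_card (n := 1) (by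
    rw [Nat.card_zpowers, pow_one, orderOf_eq_prime (by rw [sq, hj]) hj1])
  have := CfsgLib.CharP.le_pCore' inferInstance hp (Subgroup.mem_zpowers j)
  rw [hO2] at this
  exact hj1 this

theorem phiS_injective : Function.Injective (phiS P e) := by
  rw [← MonoidHom.ker_eq_bot_iff, Subgroup.eq_bot_iff_forall]
  intro g hg
  by_contra hg1
  have hK : ∀ h, ⁅g, h⁆ ∈ (phiS P e).ker := fun h => by
    rw [MonoidHom.mem_ker] at hg ⊢
    rw [map_commutatorElement, hg, commutatorElement_one_left]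
  have hneg : (-1 : S2) ∈ (phiS P e).ker := by
    rcases neg_one_of_ne_one g hg1 with h | h | h | ⟨w, h | h⟩
    · exact h ▸ pow_mem hg 2
    · exact h ▸ hg
    · exact h ▸ pow_mem hg 3
    · exact h ▸ hK w
    · exact h ▸ pow_mem (hK w) 2
  obtain ⟨j, hj, hje⟩ := exists_j P e hO2
  refine theta_j_ne_one P e hO2 hj hje ?_
  rw [← phiS_mk P e, hje, MonoidHom.mem_ker.1 hneg]
  rfl

theorem theta_j {j : X} (hj : j * j = 1) (hje : e (QuotientGroup.mk j) = -1) : theta P j = -1 := by
  obtain ⟨u, hu1, hu3⟩ := exists_order_three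
  have hc : (phiS P e (-1) : Matrix (Fin 2) (Fin 2) (ZMod 3)) * phiS P e u = phiS P e u * phiS P e (-1) := by
    rw [← Units.val_mul, ← Units.val_mul, ← map_mul, ← map_mul, (Commute.neg_one_left u).eq]
  have ht := phiS_mk P e j
  rw [hje] at ht
  rw [ht] at hc
  refine (involution_centralizes (theta P j) _ ?_ ?_ ?_ hc).resolve_left (theta_j_ne_one P e hO2 hj hje)
  · rw [← ht, ← Units.val_mul, ← map_mul, show (-1 : S2) * -1 = 1 by simp, map_one, Units.val_one]
  · rw [← Units.val_mul, ← Units.val_mul, ← map_mul, ← map_mul,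
      show u * u * u = 1 by rw [← hu3, pow_succ, sq], map_one, Units.val_one]
  · intro h
    exact hu1 (phiS_injective P e hO2 (by rw [map_one]; exact Units.ext h))

theorem det_theta (x : X) : (theta P x).det = 1 := by
  obtain ⟨u, w, huw⟩ := product_of_squares (e (QuotientGroup.mk x))
  rw [← phiS_mk P e, huw, map_mul, map_pow, map_pow, Units.val_mul, Units.val_pow_eq_pow_val,
    Units.val_pow_eq_pow_val, det_mul, det_pow, det_pow]
  have key : ∀ a : ZMod 3, a ≠ 0 → a ^ 2 = 1 := by decide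
  have hne : ∀ y : (Matrix (Fin 2) (Fin 2) (ZMod 3))ˣ, (y : Matrix (Fin 2) (Fin 2) (ZMod 3)).det ≠ 0 :=
    fun y => ((Matrix.isUnit_iff_isUnit_det _).1 y.isUnit).ne_zero
  rw [key _ (hne _), key _ (hne _), one_mul]

/-- The action in `SL₂(3)`. -/
noncomputable def actS : X →* S2 where
  toFun x := ⟨theta P x, det_theta P e hO2 x⟩
  map_one' := Subtype.ext (map_one (thetaHom P))
  map_mul' x y := Subtype.ext (map_mul (thetaHom P) x y)

theorem actS_eq_one_iff {x : X} : actS P e hO2 x = 1 ↔ x ∈ R := by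
  constructor
  · intro h
    rw [← QuotientGroup.eq_one_iff, ← e.injective.eq_iff, map_one]
    refine phiS_injective P e hO2 (Units.ext ?_)
    rw [phiS_mk, map_one, Units.val_one]
    exact congrArg Subtype.val h
  · exact fun h => Subtype.ext (theta_of_mem P h)

theorem actS_surjective : Function.Surjective (actS P e hO2) := by
  intro g
  let f : X ⧸ R →* S2 := QuotientGroup.lift R (actS P e hO2) fun r hr => (actS_eq_one_iff P e hO2).2 hr
  have hf : Function.Injective f := by
    rw [← MonoidHom.ker_eq_bot_iff, Subgroup.eq_bot_iff_forall]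
    intro q hq
    obtain ⟨x, rfl⟩ := QuotientGroup.mk_surjective q
    exact (QuotientGroup.eq_one_iff x).2 ((actS_eq_one_iff P e hO2).1 hq)
  obtain ⟨q, hq⟩ := (hf.bijective_of_nat_card_le (by rw [Nat.card_congr e.toEquiv])).2 g
  obtain ⟨x, rfl⟩ := QuotientGroup.mk_surjective q
  exact ⟨x, hq⟩

/-- The coordinates of a group of shape `3^{1+2}:SL₂(3)` with an elementary subgroup of order 27. -/
theorem exists_coords_group (hne : ∃ a1 ∈ R, P.pi a1 ≠ 0 ∧ ∃ e0 : X, e0 ∉ R ∧ e0 ^ 3 = 1 ∧ e0 * a1 = a1 * e0) :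
    ∃ m : Trip → X, Function.Bijective m ∧ ∀ s t, m (tmul s t) = m s * m t := by
  classical
  obtain ⟨j, hj, hje⟩ := exists_j P e hO2
  have hjinv : j⁻¹ = j := inv_eq_of_mul_eq_one_right hj
  have hj2 : ∀ r : X, j * (j * r * j) * j = r := fun r => by
    rw [← mul_assoc, ← mul_assoc, hj, one_mul, mul_assoc, hj, mul_one]
  have hjm : ∀ r : X, ∀ s : X, j * (r * s) * j = (j * r * j) * (j * s * j) := fun r s => by
    calc j * (r * s) * j = j * r * (j * j) * (s * j) := by rw [hj]; group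
      _ = _ := by group
  have hth := theta_j P e hO2 hj hje
  have hpi : ∀ v c, P.pi (j * P.phi v c * j) = -v := fun v c => by
    have h := pi_conj P j v c
    rw [hjinv, hth, neg_mulVec, one_mulVec] at h
    exact h
  -- the shift
  obtain ⟨k, hk⟩ : ∃ k : V → ZMod 3, ∀ v, j * P.phi v 0 * j = P.phi (-v) (k v) := by
    refine ⟨fun v => P.cc (j * P.phi v 0 * j), fun v => ?_⟩
    have hm : j * P.phi v 0 * j ∈ R := by
      have := hn.conj_mem _ (P.phi_mem v 0) j
      rwa [hjinv] at this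
    conv_lhs => rw [← P.phi_pi hm]
    rw [hpi]
  have hj0 : ∀ c, j * P.phi 0 c * j = P.phi 0 c := by
    have h1 := hk ![1, 0]
    have h2 := hk ![0, 1]
    have h : P.phi ![0, 1] 0 * P.phi ![1, 0] 0 * P.phi 0 2 = P.phi ![1, 0] 0 * P.phi ![0, 1] 0 := by
      rw [P.phi_mul, P.phi_mul, P.phi_mul, add_comm (![0, 1] : V), add_zero]
      congr 1
    have h' := congrArg (fun r => j * r * j) h
    simp only [hjm, h1, h2] at h'
    obtain ⟨k2, hk2⟩ : ∃ k2, j * P.phi 0 2 * j = P.phi 0 k2 := by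
      have hm : j * P.phi 0 2 * j ∈ R := by
        have := hn.conj_mem _ (P.phi_mem 0 2) j
        rwa [hjinv] at this
      refine ⟨P.cc (j * P.phi 0 2 * j), ?_⟩
      conv_lhs => rw [← P.phi_pi hm]
      rw [hpi, neg_zero]
    rw [hk2, P.phi_mul, P.phi_mul, P.phi_mul] at h'
    have e2 := (P.phi_inj h').2
    simp [om] at e2
    have hk22 : k2 = 2 := by linear_combination e2
    rw [hk22] at hk2
    intro c
    have : ∀ c : ZMod 3, c = 0 ∨ c = 2 ∨ c = 2 + 2 := by decide
    rcases this c with rfl | rfl | rfl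
    · rw [P.phi_zero, mul_one, hj]
    · exact hk2
    · rw [show P.phi 0 (2 + 2) = P.phi 0 2 * P.phi 0 2 by rw [P.phi_mul, add_zero, show om 0 0 = 0 by simp [om], add_zero],
        hjm, hk2]
  have hjphi : ∀ v c, j * P.phi v c * j = P.phi (-v) (c + k v) := fun v c => by
    rw [show P.phi v c = P.phi v 0 * P.phi 0 c by
        rw [P.phi_mul, add_zero, zero_add, show om v 0 = 0 by simp [om], add_zero],
      hjm, hk, hj0, P.phi_mul, add_zero, show om (-v) 0 = 0 by simp [om], add_zero, add_comm c]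
  -- inverted lifts
  let psi : V → ZMod 3 → X := fun v c => P.phi v (c + k v)
  have k3 : ∀ a : ZMod 3, a + a = -a := by decide
  have hinvert : ∀ v, j * psi v 0 * j = (psi v 0)⁻¹ := fun v => by
    show j * P.phi v _ * j = (P.phi v _)⁻¹
    rw [hjphi, P.phi_inv, zero_add, k3]
  have huniq : ∀ v c, j * P.phi v c * j = (P.phi v c)⁻¹ → P.phi v c = psi v 0 := fun v c h => by
    rw [hjphi, P.phi_inv] at h
    have key : ∀ c k : ZMod 3, c + k = -c → c = 0 + k := by decide
    show P.phi v c = P.phi v (0 + k v)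
    rw [← key c (k v) (P.phi_inj h).2]
  have hkadd : ∀ v w, k (v + w) = k v + k w := by
    intro v w
    have h := hjm (P.phi v 0) (P.phi w 0)
    rw [P.phi_mul, hjphi, hk, hk, P.phi_mul] at h
    have h2 := (P.phi_inj h).2
    have homn : om (-v) (-w) = om v w := by simp [om]
    rw [homn] at h2
    linear_combination h2
  have hpsi : ∀ v w c d, psi v c * psi w d = psi (v + w) (c + d + om v w) := fun v w c d => by
    show P.phi v _ * P.phi w _ = P.phi _ _
    rw [P.phi_mul, hkadd]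
    congr 1
    ring
  have hpsi0 : ∀ v c, psi v c = psi v 0 * psi 0 c := fun v c => by
    rw [hpsi, add_zero, zero_add, show om v 0 = 0 by simp [om], add_zero]
  have hk00 : k 0 = 0 := by simpa using hkadd 0 0
  have hz : ∀ c, psi 0 c = pw P.z c := fun c => by
    show P.phi 0 (c + k 0) = _
    rw [hk00, add_zero, P.phi_eq_pw]
  -- the centre of `R` is central
  have hzX : ∀ x : X, ∀ c, x * psi 0 c * x⁻¹ = psi 0 c := by
    intro x c
    have hd := det_theta P e hO2 x
    obtain ⟨ca, hca⟩ : ∃ d, x * P.phi ![1, 0] 0 * x⁻¹ = P.phi (theta P x *ᵥ ![1, 0]) d :=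
      ⟨_, by rw [theta_mulVec, P.phi_pi (hn.conj_mem _ (P.phi_mem _ _) x)]⟩
    obtain ⟨cb, hcb⟩ : ∃ d, x * P.phi ![0, 1] 0 * x⁻¹ = P.phi (theta P x *ᵥ ![0, 1]) d :=
      ⟨_, by rw [theta_mulVec, P.phi_pi (hn.conj_mem _ (P.phi_mem _ _) x)]⟩
    have h : P.phi ![0, 1] 0 * P.phi ![1, 0] 0 * P.phi 0 2 = P.phi ![1, 0] 0 * P.phi ![0, 1] 0 := by
      rw [P.phi_mul, P.phi_mul, P.phi_mul, add_comm (![0, 1] : V), add_zero]
      congr 1
    have hxm : ∀ r s : X, x * (r * s) * x⁻¹ = (x * r * x⁻¹) * (x * s * x⁻¹) := fun r s => by group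
    have h' := congrArg (fun r => x * r * x⁻¹) h
    simp only [hxm, hca, hcb] at h'
    obtain ⟨k2, hk2⟩ : ∃ d, x * P.phi 0 2 * x⁻¹ = P.phi 0 d := by
      refine ⟨P.cc (x * P.phi 0 2 * x⁻¹), ?_⟩
      conv_lhs => rw [← P.phi_pi (hn.conj_mem _ (P.phi_mem _ _) x)]
      rw [pi_conj, mulVec_zero]
    rw [hk2, P.phi_mul, P.phi_mul, P.phi_mul] at h'
    have e2 := (P.phi_inj h').2
    rw [det_fin_two] at hd
    simp [om, Matrix.mulVec, dotProduct, Fin.sum_univ_two, Matrix.vecHead, Matrix.vecTail] at e2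
    have hk22 : k2 = 2 := by linear_combination e2 + 2 * hd
    rw [hk22] at hk2
    show x * P.phi 0 _ * x⁻¹ = P.phi 0 _
    rw [hk00, add_zero]
    have : ∀ c : ZMod 3, c = 0 ∨ c = 2 ∨ c = 2 + 2 := by decide
    rcases this c with rfl | rfl | rfl
    · rw [P.phi_zero, mul_one, mul_inv_cancel]
    · exact hk2
    · rw [show P.phi 0 (2 + 2) = P.phi 0 2 * P.phi 0 2 by rw [P.phi_mul, add_zero, show om 0 0 = 0 by simp [om], add_zero],
        hxm, hk2]
  -- the action of the centralizer of `j`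
  have hact : ∀ x : X, x * j = j * x → ∀ v c,
      x * psi v c = psi (theta P x *ᵥ v) c * x := by
    intro x hx v c
    have hm : x * psi v 0 * x⁻¹ ∈ R := hn.conj_mem _ (P.phi_mem _ _) x
    have hcj : j * x⁻¹ = x⁻¹ * j := (show Commute j x from hx.symm).inv_right.eq
    have hi : j * (x * psi v 0 * x⁻¹) * j = (x * psi v 0 * x⁻¹)⁻¹ := by
      calc j * (x * psi v 0 * x⁻¹) * j = (j * x) * psi v 0 * (x⁻¹ * j) := by group
        _ = (x * j) * psi v 0 * (j * x⁻¹) := by rw [hx, hcj]
        _ = x * (j * psi v 0 * j) * x⁻¹ := by group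
        _ = _ := by rw [hinvert]; group
    have h0 : x * psi v 0 * x⁻¹ = psi (theta P x *ᵥ v) 0 := by
      obtain ⟨w, d, hwd⟩ := P.exists_phi hm
      rw [← hwd] at hi ⊢
      rw [huniq w d hi]
      congr 1
      rw [← P.pi_phi w d, hwd, pi_conj]
    rw [← mul_inv_eq_iff_eq_mul, hpsi0 v c, hpsi0 (theta P x *ᵥ v) c,
      show x * (psi v 0 * psi 0 c) * x⁻¹ = (x * psi v 0 * x⁻¹) * (x * psi 0 c * x⁻¹) by group, h0, hzX]
  -- correcting an element into the centralizer of `j`
  have hfix : ∀ x : X, ∃ y ∈ R, (x * (y * y)) * j = j * (x * (y * y)) ∧ y = x⁻¹ * j * x * j := by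
    intro x
    set y := x⁻¹ * j * x * j
    have hy : y ∈ R := by
      rw [← QuotientGroup.eq_one_iff, ← e.injective.eq_iff]
      simp only [y, QuotientGroup.mk_mul, QuotientGroup.mk_inv, map_mul, map_inv, map_one, hje]
      rw [mul_assoc (e (QuotientGroup.mk x))⁻¹ (-1 : S2), (Commute.neg_one_left (e (QuotientGroup.mk x))).eq,
        ← mul_assoc, inv_mul_cancel, one_mul]
      simp
    refine ⟨y, hy, ?_, rfl⟩
    have hy3 : y ^ 3 = 1 := P.exp y hy
    have hy' : j * y * j = y⁻¹ := by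
      refine eq_inv_of_mul_eq_one_left ?_
      calc j * (x⁻¹ * j * x * j) * j * (x⁻¹ * j * x * j)
          = j * (x⁻¹ * j * x) * (j * j) * (x⁻¹ * j * x * j) := by group
        _ = j * (x⁻¹ * (j * (x * x⁻¹) * j) * x) * j := by rw [hj]; group
        _ = 1 := by rw [mul_inv_cancel, mul_one, hj, mul_one, inv_mul_cancel, mul_one, hj]
    have h2 : j * (x * (y * y)) * j = x * (y * y) := by
      rw [hjm, hjm y, hy', show j * x * j = x * y by simp only [y]; group]
      have hy2 : y⁻¹ = y * y := by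
        refine inv_eq_of_mul_eq_one_right ?_
        rw [← mul_assoc, ← hy3, pow_succ, sq]
      calc x * y * (y⁻¹ * y⁻¹) = x * y⁻¹ := by group
        _ = x * (y * y) := by rw [hy2]
    calc (x * (y * y)) * j = (j * (x * (y * y)) * j) * j := by rw [h2]
      _ = _ := by rw [mul_assoc, hj, mul_one]
  -- an element of order three commuting with `j`
  obtain ⟨a1, ha1, hv0, e0, he0, he03, he0a⟩ := hne
  obtain ⟨y, hy, hyj, -⟩ := hfix e0
  set n := e0 * (y * y) with hndef
  have hnR : n ∉ R := fun h => he0 (by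
    have := mul_mem h (inv_mem (mul_mem hy hy))
    rwa [hndef, mul_inv_cancel_right] at this)
  have hn3 : n ^ 3 = 1 := by
    obtain ⟨v, c, rfl⟩ := P.exists_phi ha1
    rw [P.pi_phi] at hv0
    set c' := c - k v with hc'
    have hA : P.phi v c = psi v c' := by show _ = P.phi v _; rw [hc', sub_add_cancel]
    have hTv : theta P e0 *ᵥ v = v := by
      rw [← pi_conj P e0 v c, he0a, mul_inv_cancel_right, P.pi_phi]
    have hna : n * psi v c' = psi v c' * n := by
      rw [hact n hyj v c']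
      congr 2
      rw [hndef, show theta P (e0 * (y * y)) = theta P e0 * theta P (y * y) from map_mul (thetaHom P) _ _,
        theta_of_mem P (mul_mem hy hy), mul_one, hTv]
    obtain ⟨w, d, hwd⟩ := P.exists_phi (mul_mem hy hy)
    have hyy : (y * y) * P.phi v c = P.phi v c * (y * y) := by
      rw [hndef, ← hA] at hna
      calc (y * y) * P.phi v c = e0⁻¹ * (e0 * (y * y) * P.phi v c) := by group
        _ = e0⁻¹ * (P.phi v c * e0) * (y * y) := by rw [hna]; group
        _ = P.phi v c * (y * y) := by rw [← he0a]; group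
    rw [← hwd, P.phi_mul, P.phi_mul, add_comm w v] at hyy
    have hom : om w v = om v w := by linear_combination (P.phi_inj hyy).2
    have key : ∀ v w : V, v ≠ 0 → om w v = om v w → w = 0 ∨ w = v ∨ w = v + v := by decide +kernel
    have hec : ∀ d, Commute e0 (P.phi 0 d) := fun d => by
      have := hzX e0 d
      rw [hz, ← P.phi_eq_pw] at this
      exact mul_inv_eq_iff_eq_mul.1 this
    have hev : Commute e0 (P.phi v 0) := by
      rw [show P.phi v 0 = P.phi v c * P.phi 0 (-c) by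
        rw [P.phi_mul, add_zero, show om v 0 = 0 by simp [om], add_zero, add_neg_cancel]]
      exact (show Commute e0 (P.phi v c) from he0a).mul_right (hec _)
    have hcomm : Commute e0 (P.phi w d) := by
      rcases key v w hv0 hom with rfl | rfl | rfl
      · exact hec d
      · rw [show P.phi w d = P.phi w 0 * P.phi 0 d by
          rw [P.phi_mul, add_zero, zero_add, show om w 0 = 0 by simp [om], add_zero]]
        exact hev.mul_right (hec d)
      · rw [show P.phi (v + v) d = P.phi v 0 * P.phi v 0 * P.phi 0 d by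
          rw [P.phi_mul, P.phi_mul, show ∀ u : V, om u u = 0 from fun u => by simp [om]; ring,
            show ∀ u : V, om u 0 = 0 from fun u => by simp [om]]
          simp]
        exact (hev.mul_right hev).mul_right (hec d)
    rw [hwd] at hcomm
    rw [hndef, hcomm.mul_pow, he03, one_mul]
    exact P.exp _ (mul_mem hy hy)
  -- a complement inside the centralizer of `j`
  set N := Subgroup.centralizer ({j} : Set X)
  have hNmem : ∀ x, x ∈ N ↔ x * j = j * x := fun x => Subgroup.mem_centralizer_singleton_iff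
  let f : N →* S2 := (actS P e hO2).comp N.subtype
  have hfs : Function.Surjective f := by
    intro g
    obtain ⟨x, hx⟩ := actS_surjective P e hO2 g
    obtain ⟨y', hy', hyj', -⟩ := hfix x
    refine ⟨⟨x * (y' * y'), (hNmem _).2 hyj'⟩, ?_⟩
    show actS P e hO2 (x * (y' * y')) = g
    rw [map_mul, (actS_eq_one_iff P e hO2).2 (mul_mem hy' hy'), mul_one, hx]
  have hker : ∀ x : N, f x = 1 → ∃ c, (x : X) = pw P.z c := by
    intro x hx
    obtain ⟨v, c, hvc⟩ : ∃ v c, P.phi v c = (x : X) := P.exists_phi ((actS_eq_one_iff P e hO2).1 hx)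
    have h := hjphi v c
    rw [hvc] at h
    rw [show j * (x : X) * j = x by rw [← (hNmem _).1 x.2, mul_assoc, hj, mul_one], ← hvc] at h
    have key : ∀ v : V, v = -v → v = 0 := by decide +kernel
    refine ⟨c, ?_⟩
    rw [← hvc, key v (P.phi_inj h).1, P.phi_eq_pw]
  have hzN : P.z ∈ N := by
    rw [hNmem]
    have := hzX j 1
    rw [hz, pw_one] at this
    exact (mul_inv_eq_iff_eq_mul.1 this).symm
  set zN : N := ⟨P.z, hzN⟩
  set nN : N := ⟨n, (hNmem n).2 hyj⟩
  have hz3 : orderOf zN = 3 := by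
    rw [← Subgroup.orderOf_coe]
    haveI : Fact (Nat.Prime 3) := ⟨Nat.prime_three⟩
    exact orderOf_eq_prime (P.exp _ P.hz) P.hz1
  have hn3' : orderOf nN = 3 := by
    rw [← Subgroup.orderOf_coe]
    haveI : Fact (Nat.Prime 3) := ⟨Nat.prime_three⟩
    exact orderOf_eq_prime hn3 fun h => hnR (by show n ∈ R; rw [show n = 1 from h]; exact one_mem R)
  set K := Subgroup.zpowers zN
  set A := Subgroup.zpowers nN
  have hcen : zN ∈ Subgroup.center N := Subgroup.mem_center_iff.2 fun g => Subtype.ext (by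
    have := hzX g 1
    rw [hz, pw_one] at this
    exact mul_inv_eq_iff_eq_mul.1 this)
  haveI hKn : K.Normal := ⟨fun x hx g => by
    rw [Subgroup.mem_center_iff.1 ((Subgroup.zpowers_le.2 hcen) hx) g, mul_inv_cancel_right]; exact hx⟩
  haveI : Fact (Nat.Prime 3) := ⟨Nat.prime_three⟩
  have hkerK : f.ker = K := by
    refine le_antisymm (fun x hx => ?_) (Subgroup.zpowers_le.2 (Subtype.ext (theta_of_mem P P.hz)))
    obtain ⟨c, hc⟩ := hker x hx
    rw [show x = zN ^ c.val from Subtype.ext (by simpa [pw] using hc)]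
    exact Subgroup.npow_mem_zpowers _ _
  have hNcard : Nat.card N = 72 := by
    have h := f.ker.index_mul_card
    rw [Subgroup.index_ker, MonoidHom.range_eq_top.2 hfs, Subgroup.card_top, Nat.card_eq_fintype_card, card_S2,
      hkerK, Nat.card_zpowers, hz3] at h
    omega
  have hAK : A ⊓ K = ⊥ := by
    refine Subgroup.eq_bot_of_card_le _ ?_
    rcases (Nat.dvd_prime Nat.prime_three).1
      (show Nat.card ↥(A ⊓ K) ∣ 3 from hz3 ▸ (Nat.card_zpowers zN) ▸ Subgroup.card_dvd_of_le inf_le_right)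
      with h | h
    · omega
    · exfalso
      have hAeq : A ⊓ K = A := Subgroup.eq_of_le_of_card_ge inf_le_left (by
        rw [h, Nat.card_zpowers, hn3'])
      have h2 : nN ∈ A ⊓ K := by rw [hAeq]; exact Subgroup.mem_zpowers nN
      have hnk : nN ∈ f.ker := hkerK ▸ h2.2
      exact hnR ((actS_eq_one_iff P e hO2).1 hnk)
  haveI : IsMulCommutative K := inferInstance
  have hidx : (K ⊔ A).index = 8 := by
    have hp : IsPGroup 3 ↥(K ⊔ A) := IsPGroup.to_sup_of_normal_left
      (IsPGroup.of_card (n := 1) (by rw [Nat.card_zpowers, hz3, pow_one]))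
      (IsPGroup.of_card (n := 1) (by rw [Nat.card_zpowers, hn3', pow_one]))
    obtain ⟨i, hi⟩ := IsPGroup.iff_card.1 hp
    have hlt : Nat.card K < Nat.card ↥(K ⊔ A) := by
      refine lt_of_le_of_ne (Nat.card_le_card_of_injective _ (Subgroup.inclusion_injective le_sup_left)) fun h => ?_
      have hK' : K = K ⊔ A := Subgroup.eq_of_le_of_card_ge le_sup_left h.ge
      have : A ⊓ K = A := inf_eq_left.2 (by rw [hK']; exact le_sup_right)
      rw [hAK] at this
      have h1 : Nat.card A = 3 := by rw [Nat.card_zpowers]; exact hn3'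
      rw [← show (⊥ : Subgroup N) = A from this, Subgroup.card_bot] at h1
      omega
    rw [Nat.card_zpowers, hz3, hi] at hlt
    have hdvd := Subgroup.card_subgroup_dvd_card (K ⊔ A)
    rw [hi, hNcard] at hdvd
    have hi2 : i = 2 := by
      have h2 : 2 ≤ i := by
        by_contra hh
        interval_cases i <;> simp at hlt
      by_contra hne
      have h3 : 3 ^ 3 ∣ 72 := (Nat.pow_dvd_pow 3 (show 3 ≤ i by omega)).trans hdvd
      norm_num at h3
    have h := (K ⊔ A).index_mul_card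
    rw [hi, hi2, hNcard] at h
    omega
  obtain ⟨H, hH⟩ := CfsgLib.Solvable.exists_isComplement'_of_le (K := K) (A := A) (U := K ⊔ A) le_sup_left
    (by rw [Nat.card_zpowers, hz3, hidx]; norm_num) hAK rfl
  have hfH : Function.Bijective (f.comp H.subtype) := by
    have hinj : Function.Injective (f.comp H.subtype) := by
      rw [← MonoidHom.ker_eq_bot_iff, Subgroup.eq_bot_iff_forall]
      intro x hx
      have hxK : (x : N) ∈ K := hkerK ▸ (show (x : N) ∈ f.ker from hx)
      exact Subtype.ext (Subgroup.disjoint_def.1 hH.disjoint hxK x.2)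
    refine hinj.bijective_of_nat_card_le ?_
    have := hH.card_mul
    rw [Nat.card_zpowers, hz3, hNcard] at this
    rw [Nat.card_eq_fintype_card, card_S2]
    omega
  let l : S2 →* X := (N.subtype.comp H.subtype).comp (MulEquiv.ofBijective _ hfH).symm.toMonoidHom
  have hl : ∀ A, actS P e hO2 (l A) = A := fun A =>
    (MulEquiv.ofBijective _ hfH).apply_symm_apply A
  have hlj : ∀ A, l A * j = j * l A := fun A => (hNmem _).1 (((MulEquiv.ofBijective _ hfH).symm A).1).2
  let m : Trip → X := fun t => psi t.1.1 t.1.2 * l t.2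
  have hlaw : ∀ s t, m (tmul s t) = m s * m t := by
    intro s t
    show psi _ _ * l (s.2 * t.2) = psi _ _ * l s.2 * (psi _ _ * l t.2)
    rw [mul_assoc (psi s.1.1 s.1.2), ← mul_assoc (l s.2), hact (l s.2) (hlj _),
      show theta P (l s.2) = (s.2 : Matrix (Fin 2) (Fin 2) (ZMod 3)) from congrArg Subtype.val (hl s.2),
      ← mul_assoc, ← mul_assoc, hpsi, map_mul, mul_assoc]
    rfl
  refine ⟨m, Function.Injective.bijective_of_nat_card_le ?_ ?_, hlaw⟩
  · rintro ⟨⟨v, c⟩, A⟩ ⟨⟨w, d⟩, B⟩ h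
    have h1 := congrArg (actS P e hO2) h
    simp only [m, map_mul, hl] at h1
    rw [(actS_eq_one_iff P e hO2).2 (P.phi_mem _ _), (actS_eq_one_iff P e hO2).2 (P.phi_mem _ _), one_mul,
      one_mul] at h1
    subst h1
    have h2 : psi v c = psi w d := mul_right_cancel h
    obtain ⟨rfl, h3⟩ := P.phi_inj h2
    rw [add_left_inj] at h3
    rw [h3]
  · rw [R.card_eq_card_quotient_mul_card_subgroup, Nat.card_congr e.toEquiv, P.hcard]
    simp [card_S2]

end CfsgLib.ShapeThree
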